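import Mathlib

/-!
The affine group of a line with multipliers in a given subgroup of the units: element orders.
-/

set_option autoImplicit false
set_option linter.style.haveILetI false

namespace Cfsg.Agent.Lib.Spectrum62

variable {K : Type*} [Field K]

/-- Multiplication by units on the additive group, written multiplicatively. -/
def scaleHom (C : Subgroup Kˣ) : C →* MulAut (Multiplicative K) where
  toFun c :=
    { toFun := fun u => Multiplicative.ofAdd (((c : Kˣ) : K) * u.toAdd)
      invFun := fun u => Multiplicative.ofAdd ((((c : Kˣ)⁻¹ : Kˣ) : K) * u.toAdd)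
      left_inv := fun u => by simp
      right_inv := fun u => by simp
      map_mul' := fun u v => by simp [mul_add] }
  map_one' := by ext u; simp
  map_mul' := fun a b => by ext u; simp [mul_assoc]

/-- The group `K ⋊ C`. -/
abbrev AffineLine (C : Subgroup Kˣ) : Type _ := Multiplicative K ⋊[scaleHom C] C

instance finite_affineLine [Finite K] (C : Subgroup Kˣ) : Finite (AffineLine C) :=
  Finite.of_equiv _ SemidirectProduct.equivProd.symm

theorem isSolvable_affineLine (C : Subgroup Kˣ) : Group.IsSolvable (AffineLine C) := by
  exact Group.isSolvable_of_ker_le_range (SemidirectProduct.inl (φ := scaleHom C))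
    (SemidirectProduct.rightHom (φ := scaleHom C))
    (SemidirectProduct.range_inl_eq_ker_rightHom).ge

/-- Outside the translations every element is conjugate into the complement. -/
theorem orderOf_eq_right (C : Subgroup Kˣ) (x : AffineLine C) (h : x.right ≠ 1) :
    orderOf x = orderOf x.right := by
  have hc : (1 : K) - ((x.right : Kˣ) : K) ≠ 0 := fun e =>
    h (Subtype.ext (Units.ext (sub_eq_zero.mp e).symm))
  set v : K := x.left.toAdd / (1 - ((x.right : Kˣ) : K)) with hv
  have hx : x = SemidirectProduct.inl (Multiplicative.ofAdd v) * SemidirectProduct.inr x.right *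
      (SemidirectProduct.inl (Multiplicative.ofAdd v))⁻¹ := by
    refine SemidirectProduct.ext ?_ ?_
    · apply Multiplicative.toAdd.injective
      simp only [SemidirectProduct.mul_left, SemidirectProduct.mul_right, SemidirectProduct.inv_left,
        SemidirectProduct.left_inl, SemidirectProduct.left_inr, SemidirectProduct.right_inl,
        SemidirectProduct.right_inr, inv_one, one_mul, mul_one, map_one, MulAut.one_apply]
      simp [scaleHom]
      rw [hv]
      field_simp
      ring
    · simp
  have h2 := MulEquiv.orderOf_eq (MulAut.conj (SemidirectProduct.inl (Multiplicative.ofAdd v) : AffineLine C))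
    (SemidirectProduct.inr x.right)
  rw [MulAut.conj_apply, ← hx] at h2
  rw [h2]
  exact orderOf_injective _ SemidirectProduct.inr_injective _

/-- The spectrum of `K ⋊ C`. -/
theorem range_orderOf_affineLine [Finite K] (p : ℕ) [Fact p.Prime] [CharP K p] (C : Subgroup Kˣ) :
    Set.range (orderOf : AffineLine C → ℕ) = {n | n ∣ p ∨ n ∣ Nat.card C} := by
  have hp : p.Prime := Fact.out
  ext n
  constructor
  · rintro ⟨x, rfl⟩
    rcases eq_or_ne x.right 1 with h | h
    · left
      apply orderOf_dvd_of_pow_eq_one
      have hx : x = SemidirectProduct.inl x.left := SemidirectProduct.ext rfl (by simp [h])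
      rw [hx, ← map_pow]
      have : x.left ^ p = 1 := by
        apply Multiplicative.toAdd.injective
        rw [toAdd_pow, toAdd_one, nsmul_eq_mul, CharP.cast_eq_zero, zero_mul]
      rw [this, map_one]
    · right
      rw [orderOf_eq_right C x h]
      exact orderOf_dvd_natCard _
  · rintro (h | h)
    · rcases (Nat.dvd_prime hp).mp h with rfl | rfl
      · exact ⟨1, orderOf_one⟩
      · refine ⟨SemidirectProduct.inl (Multiplicative.ofAdd 1), ?_⟩
        rw [orderOf_injective _ SemidirectProduct.inl_injective, orderOf_ofAdd_eq_addOrderOf]
        exact (CharP.eq K (CharP.addOrderOf_one K) ‹_›)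
    · obtain ⟨g, hg⟩ := IsCyclic.exists_ofOrder_eq_natCard (α := C)
      refine ⟨SemidirectProduct.inr (g ^ (Nat.card C / n)), ?_⟩
      rw [orderOf_injective _ SemidirectProduct.inr_injective,
        orderOf_pow_of_dvd (Nat.div_pos (Nat.le_of_dvd Nat.card_pos h) (Nat.pos_of_dvd_of_pos h Nat.card_pos)).ne'
          (by rw [hg]; exact Nat.div_dvd_of_dvd h), hg, Nat.div_div_self h Nat.card_pos.ne']

end Cfsg.Agent.Lib.Spectrum62
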